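import Mathlib.RingTheory.LaurentSeries
import Mathlib.Algebra.MvPolynomial.Eval
import Mathlib.RingTheory.FiniteType
import Mathlib.RingTheory.PowerSeries.Trunc
import Mathlib.Algebra.Polynomial.Roots
import Mathlib.RingTheory.Localization.Away.Basic

/-!
# Approximating Laurent series points by rational functions
-/

set_option autoImplicit false
set_option backward.isDefEq.respectTransparency false
set_option maxHeartbeats 800000

universe u

noncomputable section

namespace Groth.Agent.REqArc

variable (K : Type u) [Field K]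

/-- Power series in Laurent series. -/
abbrev toL : PowerSeries K →+* LaurentSeries K := algebraMap _ _

/-- The variable. -/
abbrev tau : LaurentSeries K := toL K PowerSeries.X

theorem tau_ne_zero : tau K ≠ 0 := fun h =>
  PowerSeries.X_ne_zero (IsFractionRing.injective (PowerSeries K) (LaurentSeries K) (h.trans (map_zero _).symm))

variable {K}

/-- Order at least `n`. -/
def Fil (n : ℤ) (z : LaurentSeries K) : Prop := ∃ s, z = tau K ^ n * toL K s

theorem Fil.zero (n : ℤ) : Fil n (0 : LaurentSeries K) := ⟨0, by rw [map_zero, mul_zero]⟩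

theorem Fil.add {n : ℤ} {a b : LaurentSeries K} (ha : Fil n a) (hb : Fil n b) : Fil n (a + b) := by
  obtain ⟨s, rfl⟩ := ha
  obtain ⟨t, rfl⟩ := hb
  exact ⟨s + t, by rw [map_add, mul_add]⟩

theorem Fil.mul {m n : ℤ} {a b : LaurentSeries K} (ha : Fil m a) (hb : Fil n b) : Fil (m + n) (a * b) := by
  obtain ⟨s, rfl⟩ := ha
  obtain ⟨t, rfl⟩ := hb
  exact ⟨s * t, by rw [map_mul, zpow_add₀ (tau_ne_zero K)]; ring⟩

theorem Fil.mono {m n : ℤ} (h : m ≤ n) {a : LaurentSeries K} (ha : Fil n a) : Fil m a := by
  obtain ⟨s, rfl⟩ := ha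
  obtain ⟨d, hd⟩ := Int.eq_ofNat_of_zero_le (sub_nonneg.2 h)
  refine ⟨PowerSeries.X ^ d * s, ?_⟩
  rw [map_mul, map_pow, ← mul_assoc, ← zpow_natCast, ← zpow_add₀ (tau_ne_zero K)]
  congr 2
  omega

theorem Fil.of_series (s : PowerSeries K) : Fil 0 (toL K s) := ⟨s, by rw [zpow_zero, one_mul]⟩

theorem Fil.pow {n : ℤ} {a : LaurentSeries K} (ha : Fil n a) (e : ℕ) : Fil (e * n) (a ^ e) := by
  induction e with
  | zero => simpa using Fil.of_series (K := K) 1
  | succ e ih =>
    rw [pow_succ]
    have h := ih.mul ha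
    rwa [show ((e + 1 : ℕ) : ℤ) * n = e * n + n by push_cast; ring]

theorem exists_nat_fil (z : LaurentSeries K) : ∃ c : ℕ, Fil (-(c : ℤ)) z := by
  obtain ⟨⟨s, ⟨_, e, rfl⟩⟩, h⟩ := IsLocalization.surj (Submonoid.powers (PowerSeries.X : PowerSeries K)) z
  refine ⟨e, s, ?_⟩
  rw [map_pow] at h
  rw [zpow_neg, zpow_natCast, ← h, mul_comm z, ← mul_assoc, inv_mul_cancel₀ (pow_ne_zero _ (tau_ne_zero K)), one_mul]

theorem exists_fil (z : LaurentSeries K) : ∃ c : ℤ, Fil c z :=
  let ⟨c, hc⟩ := exists_nat_fil z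
  ⟨_, hc⟩

theorem fil_inv_one_add {δ : LaurentSeries K} (h : Fil 1 δ) : 1 + δ ≠ 0 ∧ Fil 0 (1 + δ)⁻¹ := by
  obtain ⟨s, rfl⟩ := h
  have hu : IsUnit (1 + PowerSeries.X * s) := by
    rw [PowerSeries.isUnit_iff_constantCoeff]
    simp
  obtain ⟨u, hu⟩ := hu
  have e : (1 : LaurentSeries K) + tau K ^ (1 : ℤ) * toL K s = toL K u := by
    rw [zpow_one, hu, map_add, map_one, map_mul]
  rw [e]
  have h1 : toL K u * toL K (u⁻¹ : (PowerSeries K)ˣ) = 1 := by rw [← map_mul, Units.mul_inv, map_one]
  exact ⟨left_ne_zero_of_mul_eq_one h1, by rw [inv_eq_of_mul_eq_one_right h1]; exact Fil.of_series _⟩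

/-- Polynomials are continuous. -/
theorem exists_cont {σ : Type*} [Finite σ] (v : σ → LaurentSeries K) (P : MvPolynomial σ (LaurentSeries K)) :
    ∃ c : ℤ, ∀ (M : ℕ) (u : σ → LaurentSeries K), (∀ i, Fil M (u i - v i)) →
      Fil (M + c) (MvPolynomial.eval u P - MvPolynomial.eval v P) := by
  induction P using MvPolynomial.induction_on with
  | C a => exact ⟨0, fun M u _ => by simpa using Fil.zero _⟩
  | add p q hp hq =>
    obtain ⟨c, hc⟩ := hp
    obtain ⟨d, hd⟩ := hq
    refine ⟨min c d, fun M u hu => ?_⟩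
    rw [map_add, map_add, add_sub_add_comm]
    exact ((hc M u hu).mono (by omega)).add ((hd M u hu).mono (by omega))
  | mul_X p i hp =>
    obtain ⟨c, hc⟩ := hp
    obtain ⟨d, hd⟩ := exists_fil (v i)
    obtain ⟨e, he⟩ := exists_fil (MvPolynomial.eval v p)
    refine ⟨min (c + min d 0) e, fun M u hu => ?_⟩
    have hui : Fil (min d 0) (u i) := by
      rw [← sub_add_cancel (u i) (v i)]
      exact ((hu i).mono (by omega)).add (hd.mono (by omega))
    rw [map_mul, map_mul, MvPolynomial.eval_X, MvPolynomial.eval_X,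
      show MvPolynomial.eval u p * u i - MvPolynomial.eval v p * v i =
        (MvPolynomial.eval u p - MvPolynomial.eval v p) * u i + MvPolynomial.eval v p * (u i - v i) by ring]
    exact (((hc M u hu).mul hui).mono (by omega)).add ((he.mul (hu i)).mono (by omega))

variable (K)

/-- Rational functions in Laurent series. -/
def ratL : FractionRing (Polynomial K) →+* LaurentSeries K :=
  IsFractionRing.lift (g := (toL K).comp Polynomial.coeToPowerSeries.ringHom)
    (fun a b h => Polynomial.coe_injective _ (IsFractionRing.injective (PowerSeries K) (LaurentSeries K) h))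

theorem ratL_poly (p : Polynomial K) :
    ratL K (algebraMap _ _ p) = toL K (p : PowerSeries K) := IsFractionRing.lift_algebraMap _ p

variable {K}

theorem exists_rat_near (z : LaurentSeries K) (M : ℕ) :
    ∃ w : FractionRing (Polynomial K), Fil M (ratL K w - z) := by
  obtain ⟨c, s, rfl⟩ := exists_nat_fil z
  let p : Polynomial K := PowerSeries.trunc (M + c) s
  refine ⟨algebraMap (Polynomial K) (FractionRing (Polynomial K)) p *
    (algebraMap (Polynomial K) (FractionRing (Polynomial K)) Polynomial.X ^ c)⁻¹, ?_⟩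
  obtain ⟨r, hr⟩ : (PowerSeries.X : PowerSeries K) ^ (M + c) ∣ ((p : PowerSeries K) - s) := by
    rw [PowerSeries.X_pow_dvd_iff]
    intro m hm
    rw [map_sub, Polynomial.coeff_coe, PowerSeries.coeff_trunc, if_pos hm, sub_self]
  refine ⟨r, ?_⟩
  rw [map_mul, map_inv₀, map_pow, ratL_poly, ratL_poly, Polynomial.coe_X, zpow_neg, zpow_natCast, zpow_natCast,
    mul_comm _ (tau K ^ c)⁻¹, ← mul_sub, ← map_sub, hr, map_mul, map_pow, pow_add]
  have := pow_ne_zero c (tau_ne_zero K)
  field_simp

variable {k A : Type u} [Field k] [Algebra k K] [CommRing A] [Algebra k A]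

open MvPolynomial in
/-- A power series point of a retract of an open of affine space is approximated by a rational function point. -/
theorem exists_approx [Infinite K] [Algebra.FiniteType k A] {n : ℕ} {q : MvPolynomial (Fin n) k}
    (φ : A →ₐ[k] Localization.Away q) (Q : A →+* PowerSeries K)
    (hQk : ∀ c, Q (algebraMap k A c) = PowerSeries.C (algebraMap k K c))
    (v : Localization.Away q →+* LaurentSeries K) (hv : ∀ a, v (φ a) = toL K (Q a))
    (g : A) (hg : IsUnit (φ g)) :
    ∃ (h : Polynomial K) (ψ : A →+* Localization.Away h) (e₀ e₁ : Localization.Away h →+* K),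
      (∀ c, ψ (algebraMap k A c) = algebraMap (Polynomial K) _ (Polynomial.C (algebraMap k K c))) ∧
      (∀ c, e₀ (algebraMap (Polynomial K) _ (Polynomial.C c)) = c) ∧
      (∀ c, e₁ (algebraMap (Polynomial K) _ (Polynomial.C c)) = c) ∧
      (∀ a, e₀ (ψ a) = PowerSeries.constantCoeff (Q a)) ∧ e₁ (ψ g) ≠ 0 := by
  classical
  let κ : k →+* LaurentSeries K := (toL K).comp ((PowerSeries.C).comp (algebraMap k K))
  let aq : MvPolynomial (Fin n) k →+* Localization.Away q := algebraMap _ _
  let vv : Fin n → LaurentSeries K := fun i => v (aq (X i))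
  have hvv : ∀ p, v (aq p) = eval₂ κ vv p := by
    have : v.comp aq = eval₂Hom κ vv := by
      refine MvPolynomial.ringHom_ext (fun c => ?_) (fun i => by rw [RingHom.comp_apply, coe_eval₂Hom, eval₂_X])
      rw [RingHom.comp_apply, coe_eval₂Hom, eval₂_C, show aq (C c) = φ (algebraMap k A c) from
        (φ.commutes c).trans (IsScalarTower.algebraMap_apply k (MvPolynomial (Fin n) k) (Localization.Away q) c)
          |>.symm, hv, hQk]
      rfl
    exact fun p => RingHom.congr_fun this p
  have hqv : eval₂ κ vv q ≠ 0 := by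
    rw [← hvv]
    exact ((IsLocalization.Away.algebraMap_isUnit (S := Localization.Away q) q).map v).ne_zero
  have evmap : ∀ (u : Fin n → LaurentSeries K) (p : MvPolynomial (Fin n) k),
      eval u (MvPolynomial.map κ p) = eval₂ κ u p := fun u p => eval_map _ _ _
  obtain ⟨cq, hcq⟩ := exists_cont vv (MvPolynomial.map κ q)
  obtain ⟨d, hd⟩ := exists_fil (eval₂ κ vv q)⁻¹
  let Mq : ℕ := (1 - cq - d).toNat
  have hunit : ∀ (M : ℕ), Mq ≤ M → ∀ u : Fin n → LaurentSeries K, (∀ i, Fil M (u i - vv i)) →
      eval₂ κ u q ≠ 0 ∧ Fil d (eval₂ κ u q)⁻¹ := by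
    intro M hM u hu
    have h1 := hcq M u hu
    rw [evmap, evmap] at h1
    have hδ : Fil 1 ((eval₂ κ u q - eval₂ κ vv q) * (eval₂ κ vv q)⁻¹) := (h1.mul hd).mono (by omega)
    obtain ⟨hne, hinv⟩ := fil_inv_one_add hδ
    have e : eval₂ κ u q = eval₂ κ vv q * (1 + (eval₂ κ u q - eval₂ κ vv q) * (eval₂ κ vv q)⁻¹) := by
      field_simp
      ring
    rw [e]
    refine ⟨mul_ne_zero hqv hne, ?_⟩
    rw [mul_inv]
    simpa using hd.mul hinv
  have hgen : ∀ a : A, ∃ M₀ : ℕ, ∀ M, M₀ ≤ M → ∀ (w : Fin n → FractionRing (Polynomial K))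
      (W : Localization.Away q →+* FractionRing (Polynomial K)),
      (∀ i, Fil M (ratL K (w i) - vv i)) →
      (∀ p, ratL K (W (aq p)) = eval₂ κ (fun i => ratL K (w i)) p) →
      Fil 1 (ratL K (W (φ a)) - toL K (Q a)) := by
    intro a
    obtain ⟨⟨p, ⟨_, e, rfl⟩⟩, hpe⟩ := IsLocalization.surj (Submonoid.powers q) (φ a)
    replace hpe : φ a * aq q ^ e = aq p := by rw [← map_pow]; exact hpe
    obtain ⟨cN, hcN⟩ := exists_cont vv
      (MvPolynomial.map κ p - MvPolynomial.C (toL K (Q a)) * MvPolynomial.map κ q ^ e)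
    refine ⟨max Mq (1 - cN - e * d).toNat, fun M hM w W hw hW => ?_⟩
    obtain ⟨hne, hinv⟩ := hunit M ((le_max_left _ _).trans hM) _ hw
    have h1 := hcN M (fun i => ratL K (w i)) hw
    simp only [map_sub, map_mul, map_pow, eval_C, evmap] at h1
    have h0 : eval₂ κ vv p - toL K (Q a) * eval₂ κ vv q ^ e = 0 := by
      rw [← hvv, ← hvv, ← hv, ← map_pow, ← map_mul, hpe, sub_self]
    rw [h0, sub_zero] at h1
    have h2 : ratL K (W (φ a)) * eval₂ κ (fun i => ratL K (w i)) q ^ e = eval₂ κ (fun i => ratL K (w i)) p := by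
      rw [← hW, ← hW, ← map_pow, ← map_mul, ← map_pow, ← map_mul, hpe]
    rw [← h2, ← sub_mul] at h1
    have h3 := h1.mul (hinv.pow e)
    rw [mul_assoc, ← mul_pow, mul_inv_cancel₀ hne, one_pow, mul_one] at h3
    exact h3.mono (by
      have := (le_max_right _ _).trans hM
      omega)
  obtain ⟨s, hs⟩ := (Algebra.FiniteType.out : (⊤ : Subalgebra k A).FG)
  choose M₀ hM₀ using hgen
  let M := max Mq (s.sup M₀)
  choose w hw using fun i => exists_rat_near (vv i) M
  obtain ⟨hqu, -⟩ := hunit M (le_max_left _ _) _ hw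
  let wp : MvPolynomial (Fin n) k →+* FractionRing (Polynomial K) :=
    eval₂Hom ((algebraMap (Polynomial K) (FractionRing (Polynomial K))).comp
      (Polynomial.C.comp (algebraMap k K))) w
  have hwp : ∀ p, ratL K (wp p) = eval₂ κ (fun i => ratL K (w i)) p := by
    have : (ratL K).comp wp = eval₂Hom κ (fun i => ratL K (w i)) :=
      MvPolynomial.ringHom_ext (fun c => by simp [wp, κ, ratL_poly]) (fun i => by simp [wp])
    exact fun p => RingHom.congr_fun this p
  have hwq : IsUnit (wp q) := isUnit_iff_ne_zero.2 fun h => hqu (by rw [← hwp, h, map_zero])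
  let W : Localization.Away q →+* FractionRing (Polynomial K) := IsLocalization.Away.lift q hwq
  have hWp : ∀ p, W (aq p) = wp p := fun p => IsLocalization.Away.lift_eq q hwq p
  let ψ₀ : A →+* FractionRing (Polynomial K) := W.comp φ.toRingHom
  have hψk : ∀ c, ψ₀ (algebraMap k A c) = algebraMap (Polynomial K) _ (Polynomial.C (algebraMap k K c)) := fun c => by
    show W (φ (algebraMap k A c)) = _
    rw [φ.commutes, IsScalarTower.algebraMap_apply k (MvPolynomial (Fin n) k) (Localization.Away q)]
    exact (hWp _).trans (eval₂_C _ _ _)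
  have hadj : ∀ a : A, a ∈ Algebra.adjoin k (s : Set A) := fun a => by rw [hs]; trivial
  have hclose : ∀ a, Fil 1 (ratL K (ψ₀ a) - toL K (Q a)) := by
    intro a
    induction hadj a using Algebra.adjoin_induction with
    | mem a ha => exact hM₀ a M ((Finset.le_sup ha).trans (le_max_right _ _)) w W hw (fun p => by rw [hWp, hwp])
    | algebraMap c =>
      rw [hψk, ratL_poly, Polynomial.coe_C, hQk, sub_self]
      exact Fil.zero 1
    | add x y _ _ hx hy => rw [map_add, map_add, map_add, map_add, add_sub_add_comm]; exact hx.add hy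
    | mul x y _ _ hx hy =>
      have hy0 : Fil 0 (ratL K (ψ₀ y)) := by
        rw [← sub_add_cancel (ratL K (ψ₀ y)) (toL K (Q y))]
        exact (hy.mono (by omega)).add (Fil.of_series _)
      rw [map_mul, map_mul, map_mul, map_mul, show ratL K (ψ₀ x) * ratL K (ψ₀ y) - toL K (Q x) * toL K (Q y) =
        (ratL K (ψ₀ x) - toL K (Q x)) * ratL K (ψ₀ y) + toL K (Q x) * (ratL K (ψ₀ y) - toL K (Q y)) by ring]
      exact ((hx.mul hy0).mono (by omega)).add (((Fil.of_series _).mul hy).mono (by omega))
  -- denominators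
  let al : Polynomial K →+* FractionRing (Polynomial K) := algebraMap _ _
  have hal : Function.Injective al := IsFractionRing.injective _ _
  have hden : ∀ a, ∃ den num : Polynomial K, den.eval 0 ≠ 0 ∧ ψ₀ a * al den = al num := by
    intro a
    obtain ⟨⟨num, den, hden⟩, hnd⟩ := IsLocalization.surj (nonZeroDivisors (Polynomial K)) (ψ₀ a)
    obtain ⟨den', hd1, hd2⟩ := Polynomial.exists_eq_pow_rootMultiplicity_mul_and_not_dvd den
      (nonZeroDivisors.ne_zero hden) 0
    rw [map_zero, sub_zero] at hd1 hd2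
    replace hnd : ψ₀ a * al den = al num := hnd
    generalize den.rootMultiplicity 0 = r at hd1
    obtain ⟨t, ht⟩ : Fil 0 (ratL K (ψ₀ a)) := by
      rw [← sub_add_cancel (ratL K (ψ₀ a)) (toL K (Q a))]
      exact ((hclose a).mono (by omega)).add (Fil.of_series _)
    rw [zpow_zero, one_mul] at ht
    have hnum : (num : PowerSeries K) = PowerSeries.X ^ r * (t * (den' : PowerSeries K)) := by
      refine IsFractionRing.injective (PowerSeries K) (LaurentSeries K) ?_
      show toL K _ = toL K _
      rw [← ratL_poly, ← hnd, map_mul, ratL_poly, ht, hd1, Polynomial.coe_mul, Polynomial.coe_pow, Polynomial.coe_X,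
        ← map_mul]
      congr 1
      ring
    obtain ⟨num', hnum'⟩ : Polynomial.X ^ r ∣ num := by
      rw [Polynomial.X_pow_dvd_iff]
      intro j hj
      rw [← Polynomial.coeff_coe, hnum, PowerSeries.coeff_X_pow_mul', if_neg (by omega)]
    refine ⟨den', num', fun h => hd2 (Polynomial.X_dvd_iff.2 (by rwa [Polynomial.coeff_zero_eq_eval_zero])), ?_⟩
    refine mul_left_cancel₀ (pow_ne_zero r (fun h => Polynomial.X_ne_zero (hal (h.trans (map_zero al).symm)))) ?_
    rw [← map_pow, mul_left_comm, ← map_mul, ← map_mul, ← hd1, ← hnum']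
    exact hnd
  choose den num hden0 hdn using hden
  let h : Polynomial K := ∏ a ∈ insert g s, den a
  have hh0 : h.eval 0 ≠ 0 := by
    rw [Polynomial.eval_prod]
    exact Finset.prod_ne_zero_iff.2 fun a _ => hden0 a
  have hh : h ≠ 0 := fun e => hh0 (by rw [e, Polynomial.eval_zero])
  have halh : IsUnit (al h) := isUnit_iff_ne_zero.2 fun e => hh (hal (e.trans (map_zero al).symm))
  let incl : Localization.Away h →+* FractionRing (Polynomial K) := IsLocalization.Away.lift h halh
  have hincl : ∀ p, incl (algebraMap _ _ p) = al p := fun p => IsLocalization.Away.lift_eq h halh p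
  have hinj : Function.Injective incl := by
    rw [injective_iff_map_eq_zero]
    intro z hz
    obtain ⟨⟨p, ⟨_, e, rfl⟩⟩, hp⟩ := IsLocalization.surj (Submonoid.powers h) z
    have : al p = 0 := by rw [← hincl, ← hp, map_mul, hz, zero_mul]
    rw [hal (this.trans (map_zero al).symm), map_zero] at hp
    exact (((IsLocalization.Away.algebraMap_isUnit (S := Localization.Away h) h).pow e).mul_left_eq_zero).1
      (by rw [← map_pow]; exact hp)
  have hran : ∀ a, ∃ z, incl z = ψ₀ a := by
    intro a
    induction hadj a using Algebra.adjoin_induction with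
    | mem a ha =>
      have hu : IsUnit (algebraMap (Polynomial K) (Localization.Away h) h) :=
        IsLocalization.Away.algebraMap_isUnit h
      obtain ⟨r, hr⟩ : den a ∣ h := Finset.dvd_prod_of_mem _ (Finset.mem_insert_of_mem ha)
      obtain ⟨u, hu'⟩ := hu
      refine ⟨algebraMap _ _ (num a * r) * ↑u⁻¹, ?_⟩
      refine halh.mul_right_cancel ?_
      rw [map_mul, hincl, mul_assoc, ← hincl h, ← map_mul, ← hu', Units.inv_mul, map_one, mul_one, hu', hincl,
        map_mul, ← hdn, mul_assoc, ← map_mul, ← hr]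
    | algebraMap c => exact ⟨algebraMap _ _ (Polynomial.C (algebraMap k K c)), by rw [hincl, hψk]⟩
    | add x y _ _ hx hy =>
      obtain ⟨z, hz⟩ := hx; obtain ⟨z', hz'⟩ := hy
      exact ⟨z + z', by rw [map_add, map_add, hz, hz']⟩
    | mul x y _ _ hx hy =>
      obtain ⟨z, hz⟩ := hx; obtain ⟨z', hz'⟩ := hy
      exact ⟨z * z', by rw [map_mul, map_mul, hz, hz']⟩
  choose ψf hψf using hran
  let ψ : A →+* Localization.Away h :=
    { toFun := ψf
      map_one' := hinj (by rw [hψf, map_one, map_one])
      map_mul' := fun x y => hinj (by rw [hψf, map_mul, map_mul, hψf, hψf])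
      map_zero' := hinj (by rw [hψf, map_zero, map_zero])
      map_add' := fun x y => hinj (by rw [hψf, map_add, map_add, hψf, hψf]) }
  -- the good point
  have hg0 : num g ≠ 0 := fun e => by
    have h1 : IsUnit (ψ₀ g) := hg.map W
    have := hdn g
    rw [e, map_zero, h1.mul_right_eq_zero] at this
    exact hden0 g (by rw [hal (this.trans (map_zero al).symm), Polynomial.eval_zero])
  obtain ⟨s₁, hs₁⟩ : ∃ x : K, (h * num g).eval x ≠ 0 := by
    by_contra! hc
    exact mul_ne_zero hh hg0 (Polynomial.funext fun x => by rw [hc x, Polynomial.eval_zero])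
  rw [Polynomial.eval_mul, mul_ne_zero_iff] at hs₁
  let ev : (x : K) → h.eval x ≠ 0 → (Localization.Away h →+* K) := fun x hx =>
    IsLocalization.Away.lift (g := Polynomial.evalRingHom x) h (isUnit_iff_ne_zero.2 hx)
  have hev : ∀ (x : K) (hx : h.eval x ≠ 0) (p : Polynomial K), ev x hx (algebraMap _ _ p) = p.eval x := fun x hx p => IsLocalization.Away.lift_eq h _ p
  refine ⟨h, ψ, ev 0 hh0, ev s₁ hs₁.1, fun c => hinj ((hψf _).trans ((hψk c).trans (hincl _).symm)),
    fun c => (hev 0 hh0 _).trans Polynomial.eval_C, fun c => (hev s₁ hs₁.1 _).trans Polynomial.eval_C, fun a => ?_, ?_⟩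
  · have hu : IsUnit ((h : PowerSeries K)) := by
      rw [PowerSeries.isUnit_iff_constantCoeff, isUnit_iff_ne_zero, ← PowerSeries.coeff_zero_eq_constantCoeff_apply,
        Polynomial.coeff_coe, Polynomial.coeff_zero_eq_eval_zero]
      exact hh0
    let θ : Localization.Away h →+* PowerSeries K :=
      IsLocalization.Away.lift (g := Polynomial.coeToPowerSeries.ringHom) h hu
    have hθ : ∀ p : Polynomial K, θ (algebraMap _ _ p) = (p : PowerSeries K) := fun p => IsLocalization.Away.lift_eq h _ p
    have h1 : (toL K).comp θ = (ratL K).comp incl :=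
      IsLocalization.ringHom_ext (Submonoid.powers h) (RingHom.ext fun p => by
        simp only [RingHom.comp_apply, hθ, hincl]
        exact (ratL_poly K p).symm)
    have h2 : PowerSeries.constantCoeff.comp θ = ev 0 hh0 :=
      IsLocalization.ringHom_ext (Submonoid.powers h) (RingHom.ext fun p => by
        simp only [RingHom.comp_apply, hθ, hev]
        rw [← PowerSeries.coeff_zero_eq_constantCoeff_apply, Polynomial.coeff_coe, Polynomial.coeff_zero_eq_eval_zero])
    obtain ⟨r, hr⟩ := hclose a
    rw [← hψf a, ← RingHom.comp_apply, ← h1, RingHom.comp_apply, ← map_sub, zpow_one, ← map_mul] at hr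
    have h3 : θ (ψf a) - Q a = PowerSeries.X * r := IsFractionRing.injective (PowerSeries K) (LaurentSeries K) hr
    show ev 0 hh0 (ψf a) = _
    rw [← h2, RingHom.comp_apply, ← sub_eq_zero, ← map_sub, h3]
    simp
  · intro h0
    have h1 : ψ g * algebraMap _ _ (den g) = algebraMap _ _ (num g) := hinj (by
      rw [map_mul, hincl, hincl]
      show incl (ψf g) * _ = _
      rw [hψf, hdn])
    have h2 := congrArg (ev s₁ hs₁.1) h1
    rw [map_mul, h0, zero_mul] at h2
    exact hs₁.2 ((hev s₁ hs₁.1 _).symm.trans h2.symm)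

end Groth.Agent.REqArc
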