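import Mathlib.RingTheory.Smooth.Basic
import Mathlib.RingTheory.Smooth.AdicCompletion
import Mathlib.RingTheory.Ideal.Cotangent
import Mathlib.RingTheory.MvPolynomial.Ideal
import Mathlib.RingTheory.MvPolynomial.Homogeneous
import Mathlib.RingTheory.AdicCompletion.Completeness
import Mathlib.RingTheory.PowerSeries.Basic
import Mathlib.RingTheory.Filtration
import Mathlib.Algebra.MvPolynomial.Funext
import Mathlib.LinearAlgebra.Basis.VectorSpace
import Mathlib.RingTheory.Localization.AtPrime.Basic
import Mathlib.RingTheory.Localization.Submodule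

/-!
# Arcs at rational points of formally smooth algebras
-/

set_option autoImplicit false
set_option backward.isDefEq.respectTransparency false
set_option linter.style.haveILetI false

universe u

noncomputable section

namespace Groth.Agent.REqArc

/-- Powers of an ideal of completeness are ideals of completeness. -/
theorem isAdicComplete_pow {A : Type u} [CommRing A] (I : Ideal A) [IsAdicComplete I A] (N : ℕ) (hN : 0 < N) :
    IsAdicComplete (I ^ N) A where
  haus' x hx := IsHausdorff.haus' (I := I) x fun n => by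
    have h := hx n
    rw [SModEq.sub_mem, sub_zero, smul_eq_mul, Ideal.mul_top, ← pow_mul] at h
    rw [SModEq.sub_mem, sub_zero, smul_eq_mul, Ideal.mul_top]
    exact Ideal.pow_le_pow_right (Nat.le_mul_of_pos_left n hN) h
  prec' f hf := by
    have hf' : ∀ {m n : ℕ}, m ≤ n → f m - f n ∈ I ^ (N * m) := fun {m n} hmn => by
      have h := hf hmn
      rw [SModEq.sub_mem, smul_eq_mul, Ideal.mul_top, ← pow_mul] at h
      exact h
    obtain ⟨L, hL⟩ := IsPrecomplete.prec' (I := I) f (fun {m n} hmn => by
      rw [SModEq.sub_mem, smul_eq_mul, Ideal.mul_top]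
      exact Ideal.pow_le_pow_right (Nat.le_mul_of_pos_left m hN) (hf' hmn))
    refine ⟨L, fun n => ?_⟩
    have h1 := hL (N * n)
    rw [SModEq.sub_mem, smul_eq_mul, Ideal.mul_top] at h1
    rw [SModEq.sub_mem, smul_eq_mul, Ideal.mul_top, ← pow_mul, ← sub_add_sub_cancel (f n) (f (N * n)) L]
    exact add_mem (hf' (Nat.le_mul_of_pos_left n hN)) h1

open MvPolynomial in
/-- Restricting a polynomial to a line. -/
theorem coeff_aeval_line {K σ : Type u} [Field K] (c : σ → K) (p : MvPolynomial σ K) (j : ℕ) :
    PowerSeries.coeff j (aeval (fun i => PowerSeries.C (c i) * PowerSeries.X) p) =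
      eval c (homogeneousComponent j p) := by
  induction p using MvPolynomial.induction_on' with
  | monomial d a =>
    have h1 : aeval (fun i => PowerSeries.C (c i) * PowerSeries.X) (monomial d a) =
        PowerSeries.C (a * d.prod fun i e => c i ^ e) * PowerSeries.X ^ d.degree := by
      rw [aeval_monomial, map_mul, mul_assoc]
      congr 1
      simp only [Finsupp.prod, mul_pow, Finset.prod_mul_distrib, Finset.prod_pow_eq_pow_sum, map_prod, map_pow]
      rfl
    have h2 : homogeneousComponent j (monomial d a) = if d.degree = j then monomial d a else 0 := by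
      classical
      ext e
      rw [coeff_homogeneousComponent]
      by_cases he : d = e
      · subst he
        split_ifs <;> simp
      · split_ifs <;> simp [coeff_monomial, he]
    rw [h1, h2, PowerSeries.coeff_C_mul_X_pow]
    by_cases hj : j = d.degree
    · rw [if_pos hj, if_pos hj.symm, eval_monomial]
    · rw [if_neg hj, if_neg (Ne.symm hj), map_zero]
  | add p q hp hq => simp only [map_add, hp, hq]

open MvPolynomial in
/-- Some line shows a polynomial outside a power of the ideal of the origin. -/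
theorem exists_line {K σ : Type u} [Field K] [Infinite K] {N : ℕ} {p : MvPolynomial σ K}
    (hp : p ∉ idealOfVars σ K ^ N) :
    ∃ c : σ → K, aeval (fun i => PowerSeries.C (c i) * PowerSeries.X) p ∉
      Ideal.span {(PowerSeries.X : PowerSeries K)} ^ N := by
  rw [mem_pow_idealOfVars_iff'] at hp
  push Not at hp
  obtain ⟨d, hd, hd0⟩ := hp
  have hq : homogeneousComponent d.degree p ≠ 0 := fun h => hd0 (by
    have := congrArg (coeff d) h
    rwa [coeff_homogeneousComponent, if_pos rfl, coeff_zero] at this)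
  obtain ⟨c, hc⟩ : ∃ c : σ → K, eval c (homogeneousComponent d.degree p) ≠ 0 := by
    by_contra! h
    exact hq (MvPolynomial.funext fun x => by rw [h x, map_zero])
  refine ⟨c, fun h => hc ?_⟩
  rw [Ideal.span_singleton_pow, Ideal.mem_span_singleton, PowerSeries.X_pow_dvd_iff] at h
  rw [← coeff_aeval_line]
  exact h _ hd

variable {K B : Type u} [Field K] [CommRing B] [Algebra K B] (ε : B →ₐ[K] K)

open MvPolynomial in
/-- Coordinates at a rational point. -/
theorem exists_coords :
    ∃ (σ : Type u) (x : σ → B) (δ : B →ₗ[K] MvPolynomial σ K), (∀ i, ε (x i) = 0) ∧ (∀ i, δ (x i) = X i) ∧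
      (∀ b, δ b ∈ idealOfVars σ K) ∧ (∀ b c, δ (b * c) = C (ε b) * δ c + C (ε c) * δ b) ∧
      ∀ z, ε z = 0 → ∃ p ∈ idealOfVars σ K, z - aeval x p ∈ RingHom.ker ε.toRingHom ^ 2 := by
  classical
  let m := RingHom.ker ε.toRingHom
  have hm : ∀ b, b - algebraMap K B (ε b) ∈ m := fun b => by simp [m, RingHom.mem_ker]
  let bas := Module.Basis.ofVectorSpace K m.Cotangent
  choose x hx using fun i => m.toCotangent_surjective (bas i)
  let pr : B →ₗ[K] m.Cotangent :=
    { toFun := fun b => m.toCotangent ⟨b - algebraMap K B (ε b), hm b⟩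
      map_add' := fun a b => by
        rw [← map_add]
        congr 1
        ext
        simp only [map_add, Submodule.coe_add]
        ring
      map_smul' := fun r a => by
        rw [RingHom.id_apply, ← algebraMap_smul B r (m.toCotangent _), ← LinearMap.map_smul]
        congr 1
        ext
        simp only [map_smul, smul_eq_mul, map_mul, Algebra.smul_def, SetLike.val_smul]
        simp [mul_sub] }
  let δ : B →ₗ[K] MvPolynomial _ K := (bas.constr K fun i => (X i : MvPolynomial _ K)).comp pr
  have hpr : ∀ z (hz : z ∈ m), pr z = m.toCotangent ⟨z, hz⟩ := fun z hz => by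
    show m.toCotangent _ = m.toCotangent _
    congr 1
    ext
    have : ε z = 0 := hz
    simp [this]
  refine ⟨_, fun i => (x i : B), δ, fun i => (x i).2, fun i => ?_, fun b => ?_, fun b c => ?_, fun z hz => ?_⟩
  · show bas.constr K _ (pr (x i : B)) = X i
    rw [hpr _ (x i).2, Subtype.coe_eta, hx, Module.Basis.constr_basis]
  · show bas.constr K _ (pr b) ∈ _
    rw [Module.Basis.constr_apply]
    exact Submodule.sum_mem _ fun i _ => Submodule.smul_of_tower_mem _ _ (Ideal.subset_span ⟨i, rfl⟩)
  · have h : pr (b * c) = ε b • pr c + ε c • pr b := by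
      show m.toCotangent _ = ε b • m.toCotangent _ + ε c • m.toCotangent _
      rw [← algebraMap_smul B (ε b) (m.toCotangent _), ← algebraMap_smul B (ε c) (m.toCotangent _),
        ← LinearMap.map_smul, ← LinearMap.map_smul, ← map_add, Ideal.toCotangent_eq]
      have e : b * c - algebraMap K B (ε (b * c)) -
          (algebraMap K B (ε b) * (c - algebraMap K B (ε c)) + algebraMap K B (ε c) * (b - algebraMap K B (ε b))) =
          (b - algebraMap K B (ε b)) * (c - algebraMap K B (ε c)) := by
        rw [map_mul, map_mul]; ring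
      show b * c - algebraMap K B (ε (b * c)) - (_ + _) ∈ m ^ 2
      rw [pow_two]
      exact e ▸ Ideal.mul_mem_mul (hm b) (hm c)
    show bas.constr K _ (pr (b * c)) = C (ε b) * δ c + C (ε c) * δ b
    rw [h, map_add, map_smul, map_smul, smul_eq_C_mul, smul_eq_C_mul]
    rfl
  · let l := bas.repr (m.toCotangent ⟨z, hz⟩)
    refine ⟨l.sum fun i r => C r * X i, ?_, ?_⟩
    · exact Submodule.sum_mem _ fun i _ => Ideal.mul_mem_left _ _ (Ideal.subset_span ⟨i, rfl⟩)
    · have h := bas.linearCombination_repr (m.toCotangent ⟨z, hz⟩)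
      let w : m := l.sum fun i r => algebraMap K B r • x i
      have hw : m.toCotangent w = m.toCotangent ⟨z, hz⟩ := by
        rw [← h, Finsupp.linearCombination_apply, map_finsuppSum]
        refine Finsupp.sum_congr fun i _ => ?_
        rw [map_smul, hx, algebraMap_smul]
      have hw' : (w : B) = aeval (fun i => (x i : B)) (l.sum fun i r => C r * X i) := by
        simp only [w, Finsupp.sum, map_sum, map_mul, aeval_C, aeval_X, Submodule.coe_sum, SetLike.val_smul,
          smul_eq_mul]
      rw [← hw', ← neg_sub]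
      exact neg_mem ((Ideal.toCotangent_eq m).1 hw)

variable [Infinite K] [IsNoetherianRing B] [Algebra.FormallySmooth K B]

open MvPolynomial in
/-- An arc at a rational point on which a given element does not vanish. -/
theorem exists_arc (b : B) (hb : ∀ s, s * b = 0 → ε s = 0) :
    ∃ Q : B →ₐ[K] PowerSeries K, (∀ a, PowerSeries.constantCoeff (Q a) = ε a) ∧ Q b ≠ 0 := by
  classical
  obtain ⟨σ, x, δ, hεx, hδx, hδI, hδmul, hgen⟩ := exists_coords ε
  let m := RingHom.ker ε.toRingHom
  haveI hmax : m.IsMaximal := RingHom.ker_isMaximal_of_surjective _ fun r => ⟨algebraMap K B r, ε.commutes r⟩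
  -- separation
  obtain ⟨n, hn⟩ : ∃ n, b ∉ m ^ n := by
    by_contra! h
    let L := Localization.AtPrime m
    haveI : IsNoetherianRing L := IsLocalization.isNoetherianRing m.primeCompl L inferInstance
    have h0 : algebraMap B L b ∈ (⨅ n : ℕ, IsLocalRing.maximalIdeal L ^ n : Ideal L) := by
      rw [Ideal.mem_iInf]
      intro n
      rw [← Localization.AtPrime.map_eq_maximalIdeal, ← Ideal.map_pow]
      exact Ideal.mem_map_of_mem _ (h n)
    rw [Ideal.iInf_pow_eq_bot_of_isLocalRing _ (IsLocalRing.maximalIdeal.isMaximal L).ne_top, Ideal.mem_bot,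
      IsLocalization.map_eq_zero_iff m.primeCompl] at h0
    obtain ⟨⟨s, hs⟩, hsb⟩ := h0
    exact hs (hb s hsb)
  let N := n + 2
  have hbN : b ∉ m ^ N := fun h => hn (Ideal.pow_le_pow_right (by omega) h)
  let P := MvPolynomial σ K
  let I : Ideal P := idealOfVars σ K
  let χ : P →ₐ[K] B := aeval x
  have hχI : ∀ j, ∀ p ∈ I ^ j, χ p ∈ m ^ j := fun j p hp => by
    have h1 : I.map χ.toRingHom ≤ m := by
      rw [Ideal.map_span, Ideal.span_le]
      rintro _ ⟨_, ⟨i, rfl⟩, rfl⟩
      show ε (χ (X i)) = 0
      rw [aeval_X]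
      exact hεx i
    have h2 : χ.toRingHom p ∈ (I.map χ.toRingHom) ^ j := by
      rw [← Ideal.map_pow]; exact Ideal.mem_map_of_mem _ hp
    exact Ideal.pow_right_mono h1 j h2
  have happrox : ∀ j, ∀ z ∈ m ^ j, ∃ p, z - χ p ∈ m ^ (j + 1) := by
    intro j
    induction j with
    | zero => exact fun z _ => ⟨C (ε z), by
      refine Ideal.pow_le_pow_right (I := m) (le_refl 1) ?_
      refine (pow_one m).symm ▸ ?_
      show ε (z - χ (C (ε z))) = 0
      rw [map_sub, show χ (C (ε z)) = algebraMap K B (ε z) from aeval_C _ _, ε.commutes]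
      exact sub_self _⟩
    | succ j ih =>
      intro z hz
      rw [pow_succ] at hz
      refine Submodule.mul_induction_on hz (fun a ha c hc => ?_) (fun u v hu hv => ?_)
      · obtain ⟨p, hp⟩ := ih a ha
        obtain ⟨q, hqI, hq⟩ := hgen c hc
        refine ⟨p * q, ?_⟩
        have hcq : χ q ∈ m := Ideal.pow_le_self one_ne_zero (hχI 1 q (by rw [pow_one]; exact hqI))
        rw [map_mul, show a * c - χ p * χ q = a * (c - χ q) + (a - χ p) * χ q by ring]
        refine add_mem ?_ ?_
        · rw [show j + 1 + 1 = j + 2 by omega, pow_add]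
          exact Ideal.mul_mem_mul ha hq
        · rw [pow_succ _ (j + 1)]
          exact Ideal.mul_mem_mul hp hcq
      · obtain ⟨p, hp⟩ := hu
        obtain ⟨q, hq⟩ := hv
        exact ⟨p + q, by rw [map_add, add_sub_add_comm]; exact add_mem hp hq⟩
  have happrox' : ∀ j z, ∃ p, z - χ p ∈ m ^ j := by
    intro j
    induction j with
    | zero => exact fun z => ⟨0, by simp⟩
    | succ j ih =>
      intro z
      obtain ⟨p, hp⟩ := ih z
      obtain ⟨q, hq⟩ := happrox j _ hp
      exact ⟨p + q, by rwa [map_add, ← sub_sub]⟩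
  -- first order
  let φ₂ : B →ₐ[K] P ⧸ I ^ 2 :=
    { toFun := fun a => Ideal.Quotient.mk _ (C (ε a) + δ a)
      map_one' := by
        have h := hδmul 1 1
        simp only [one_mul, map_one] at h
        rw [left_eq_add.1 h, map_one, map_one, add_zero, map_one]
      map_mul' := fun a c => by
        rw [← map_mul, Ideal.Quotient.eq, hδmul, map_mul, map_mul,
          show (C (ε a) * C (ε c) + (C (ε a) * δ c + C (ε c) * δ a)) - (C (ε a) + δ a) * (C (ε c) + δ c) =
            - (δ a * δ c) by ring, neg_mem_iff, pow_two]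
        exact Ideal.mul_mem_mul (hδI a) (hδI c)
      map_zero' := by simp
      map_add' := fun a c => by rw [← map_add]; congr 1; simp only [map_add]; ring
      commutes' := fun r => by
        have h1 : δ 1 = 0 := by
          have h := hδmul 1 1
          simp only [one_mul, map_one] at h
          exact left_eq_add.1 h
        show Ideal.Quotient.mk (I ^ 2) (C (ε (algebraMap K B r)) + δ (algebraMap K B r)) = _
        rw [Algebra.algebraMap_eq_smul_one (A := B), map_smul δ, h1, smul_zero, add_zero,
          ← Algebra.algebraMap_eq_smul_one, ε.commutes]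
        rfl }
  let π : (P ⧸ I ^ N) →ₐ[K] P ⧸ I ^ 2 := Ideal.Quotient.factorₐ K (Ideal.pow_le_pow_right (by omega))
  have hπ : Function.Surjective π := fun q => by
    obtain ⟨p, rfl⟩ := Ideal.Quotient.mk_surjective q
    exact ⟨Ideal.Quotient.mk _ p, rfl⟩
  let J : Ideal (P ⧸ I ^ N) := I.map (Ideal.Quotient.mk (I ^ N))
  have hπJ : ∀ q, π q ∈ I.map (Ideal.Quotient.mk (I ^ 2)) → q ∈ J := fun q hq => by
    obtain ⟨p, rfl⟩ := Ideal.Quotient.mk_surjective q
    change Ideal.Quotient.mk (I ^ 2) p ∈ _ at hq
    rw [Ideal.mem_quotient_iff_mem (Ideal.pow_le_self two_ne_zero)] at hq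
    exact Ideal.mem_map_of_mem _ hq
  have hnil : IsNilpotent (RingHom.ker (π : (P ⧸ I ^ N) →+* P ⧸ I ^ 2)) := by
    refine ⟨N, le_bot_iff.1 ((Ideal.pow_right_mono (J := J) (fun q hq => hπJ q ?_) N).trans ?_)⟩
    · rw [show π q = 0 from hq]; exact zero_mem _
    · rw [← Ideal.map_pow, Ideal.map_quotient_self]
  let φ := Algebra.FormallySmooth.liftOfSurjective φ₂ π hπ hnil
  have hφ : ∀ a, π (φ a) = φ₂ a := Algebra.FormallySmooth.liftOfSurjective_apply φ₂ π hπ hnil
  have hφm : ∀ j, ∀ a ∈ m ^ j, φ a ∈ J ^ j := fun j a ha => by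
    have h1 : m.map φ.toRingHom ≤ J := Ideal.map_le_iff_le_comap.2 fun a ha => hπJ _ (by
      show π (φ a) ∈ _
      rw [hφ]
      have h0 : ε a = 0 := ha
      show Ideal.Quotient.mk (I ^ 2) (C (ε a) + δ a) ∈ _
      rw [h0, map_zero, zero_add]
      exact Ideal.mem_map_of_mem _ (hδI a))
    have h2 : φ.toRingHom a ∈ (m.map φ.toRingHom) ^ j := by
      rw [← Ideal.map_pow]; exact Ideal.mem_map_of_mem _ ha
    exact Ideal.pow_right_mono h1 j h2
  let mkN := Ideal.Quotient.mk (I ^ N)
  have hX : ∀ i, φ (x i) - mkN (X i) ∈ J ^ 2 := fun i => by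
    obtain ⟨p, hp⟩ := Ideal.Quotient.mk_surjective (φ (x i))
    have h1 : p - X i ∈ I ^ 2 := by
      rw [← Ideal.Quotient.eq]
      have := hφ (x i)
      rw [← hp] at this
      exact this.trans (by
        show Ideal.Quotient.mk (I ^ 2) (C (ε (x i)) + δ (x i)) = _
        rw [hεx, hδx, map_zero, zero_add])
    rw [← hp, ← map_sub, ← Ideal.map_pow]
    exact Ideal.mem_map_of_mem _ h1
  have hX1 : ∀ i, φ (x i) ∈ J := fun i => by
    exact Ideal.pow_le_self one_ne_zero (hφm 1 (x i) (by rw [pow_one]; exact hεx i))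
  have hθ0 : ∀ p, φ (χ p) - mkN p ∈ J := by
    intro p
    induction p using MvPolynomial.induction_on with
    | C r =>
      rw [show φ (χ (C r)) = mkN (C r) from (congrArg φ (aeval_C _ _)).trans (φ.commutes r), sub_self]
      exact zero_mem _
    | add p q hp hq => rw [map_add, map_add, map_add, add_sub_add_comm]; exact add_mem hp hq
    | mul_X p i hp =>
      rw [map_mul, map_mul, map_mul, show χ (X i) = x i from aeval_X _ _,
        show φ (χ p) * φ (x i) - mkN p * mkN (X i) =
          (φ (χ p) - mkN p) * φ (x i) + mkN p * (φ (x i) - mkN (X i)) by ring]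
      exact add_mem (Ideal.mul_mem_right _ _ hp)
        (Ideal.mul_mem_left _ _ (Ideal.pow_le_self two_ne_zero (hX i)))
  have hθ1 : ∀ p ∈ I, φ (χ p) - mkN p ∈ J ^ 2 := fun p hp => by
    induction hp using Submodule.span_induction with
    | mem p hp =>
      obtain ⟨i, rfl⟩ := hp
      rw [show χ (X i) = x i from aeval_X _ _]
      exact hX i
    | zero => simp
    | add p q _ _ hp hq => rw [map_add, map_add, map_add, add_sub_add_comm]; exact add_mem hp hq
    | smul r p hp' hp =>
      rw [smul_eq_mul, map_mul, map_mul, map_mul, show φ (χ r) * φ (χ p) - mkN r * mkN p =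
        (φ (χ r) - mkN r) * φ (χ p) + mkN r * (φ (χ p) - mkN p) by ring]
      refine add_mem ?_ (Ideal.mul_mem_left _ _ hp)
      rw [pow_two]
      refine Ideal.mul_mem_mul (hθ0 r) ?_
      have h1 : mkN p ∈ J := Ideal.mem_map_of_mem _ hp'
      rw [← sub_add_cancel (φ (χ p)) (mkN p)]
      exact add_mem (Ideal.pow_le_self two_ne_zero hp) h1
  have hθ : ∀ j, ∀ p ∈ I ^ j, φ (χ p) - mkN p ∈ J ^ (j + 1) := by
    intro j
    induction j with
    | zero => exact fun p _ => (pow_one J).ge (hθ0 p)
    | succ j ih =>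
      intro p hp
      rw [pow_succ] at hp
      refine Submodule.mul_induction_on hp (fun a ha c hc => ?_) (fun u v hu hv => ?_)
      · rw [map_mul, map_mul, map_mul, show φ (χ a) * φ (χ c) - mkN a * mkN c =
          (φ (χ a) - mkN a) * φ (χ c) + mkN a * (φ (χ c) - mkN c) by ring]
        refine add_mem ?_ ?_
        · refine (pow_succ J (j + 1)).ge (Ideal.mul_mem_mul (ih a ha) ?_)
          exact Ideal.pow_le_self one_ne_zero (hφm 1 (χ c) (hχI 1 c (by rw [pow_one]; exact hc)))
        · exact (pow_add J j 2).ge (Ideal.mul_mem_mul ((Ideal.map_pow _ I j).le (Ideal.mem_map_of_mem _ ha)) (hθ1 c hc))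
      · rw [map_add, map_add, map_add, add_sub_add_comm]; exact add_mem hu hv
  obtain ⟨p, hp⟩ := happrox' N b
  have hφb : φ b = φ (χ p) := by
    rw [← sub_eq_zero, ← map_sub]
    have h := hφm N _ hp
    rwa [← Ideal.map_pow, Ideal.map_quotient_self, Ideal.mem_bot] at h
  obtain ⟨p₀, hp₀⟩ := Ideal.Quotient.mk_surjective (φ b)
  have hp₀N : p₀ ∉ I ^ N := by
    intro h
    have h0 : φ (χ p) = 0 := by rw [← hφb, ← hp₀]; exact Ideal.Quotient.eq_zero_iff_mem.2 h
    have hall : ∀ j ≤ N, p ∈ I ^ j := by
      intro j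
      induction j with
      | zero => exact fun _ => by simp
      | succ j ih =>
        intro hj
        have h1 := hθ j p (ih (by omega))
        rw [h0, zero_sub, neg_mem_iff, ← Ideal.map_pow] at h1
        exact (Ideal.mem_quotient_iff_mem (Ideal.pow_le_pow_right hj)).1 h1
    exact hbN ((sub_add_cancel b (χ p)) ▸ add_mem hp (hχI N p (hall N le_rfl)))
  -- restrict to a line
  obtain ⟨c, hc⟩ := exists_line hp₀N
  let T : Ideal (PowerSeries K) := Ideal.span {PowerSeries.X}
  let ℓ : P →ₐ[K] PowerSeries K := aeval fun i => PowerSeries.C (c i) * PowerSeries.X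
  have hℓ : I ^ N ≤ RingHom.ker ((Ideal.Quotient.mkₐ K (T ^ N)).comp ℓ) := fun p hp => by
    show Ideal.Quotient.mk (T ^ N) (ℓ p) = 0
    rw [Ideal.Quotient.eq_zero_iff_mem]
    have h1 : I.map ℓ.toRingHom ≤ T := by
      rw [Ideal.map_span, Ideal.span_le]
      rintro _ ⟨_, ⟨i, rfl⟩, rfl⟩
      show ℓ (X i) ∈ T
      rw [aeval_X]
      exact Ideal.mul_mem_left _ _ (Ideal.mem_span_singleton_self _)
    have h2 : ℓ.toRingHom p ∈ (I.map ℓ.toRingHom) ^ N := by
      rw [← Ideal.map_pow]; exact Ideal.mem_map_of_mem _ hp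
    exact Ideal.pow_right_mono h1 N h2
  let β : B →ₐ[K] PowerSeries K ⧸ T ^ N := (Ideal.Quotient.liftₐ (I ^ N) _ hℓ).comp φ
  haveI : IsAdicComplete (T ^ N) (PowerSeries K) := isAdicComplete_pow T N (by omega)
  obtain ⟨Q, hQ⟩ := Algebra.FormallySmooth.exists_mkₐ_comp_eq_of_isAdicComplete β
  have hQ' : ∀ a, Ideal.Quotient.mk (T ^ N) (Q a) = β a := fun a => AlgHom.congr_fun hQ a
  refine ⟨Q, fun a => ?_, fun h => hc ?_⟩
  · obtain ⟨p, hp⟩ := Ideal.Quotient.mk_surjective (φ (a - algebraMap K B (ε a)))
    have hpI : p ∈ I := by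
      have h1 := hφm 1 (a - algebraMap K B (ε a)) (by simp [m, RingHom.mem_ker])
      replace h1 := Ideal.pow_le_self one_ne_zero h1
      rw [← hp] at h1
      exact (Ideal.mem_quotient_iff_mem (Ideal.pow_le_self (by omega))).1 h1
    have h2 : Q (a - algebraMap K B (ε a)) - ℓ p ∈ T := by
      refine Ideal.pow_le_self (show N ≠ 0 by omega) ?_
      rw [← Ideal.Quotient.eq, hQ']
      show Ideal.Quotient.liftₐ (I ^ N) _ hℓ (φ (a - algebraMap K B (ε a))) = _
      rw [← hp]
      rfl
    have h3 : ℓ p ∈ T := by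
      have h1 : I.map ℓ.toRingHom ≤ T := by
        rw [Ideal.map_span, Ideal.span_le]
        rintro _ ⟨_, ⟨i, rfl⟩, rfl⟩
        show ℓ (X i) ∈ T
        rw [aeval_X]
        exact Ideal.mul_mem_left _ _ (Ideal.mem_span_singleton_self _)
      exact h1 (Ideal.mem_map_of_mem _ hpI)
    have h4 : Q (a - algebraMap K B (ε a)) ∈ T := by simpa using add_mem h2 h3
    rw [Ideal.mem_span_singleton, PowerSeries.X_dvd_iff, map_sub, map_sub, sub_eq_zero, Q.commutes] at h4
    rw [h4, PowerSeries.algebraMap_apply, Algebra.algebraMap_self, RingHom.id_apply, PowerSeries.constantCoeff_C]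
  · rw [← Ideal.Quotient.eq_zero_iff_mem]
    have h5 := hQ' b
    rw [h, map_zero] at h5
    show Ideal.Quotient.mk (T ^ N) (ℓ p₀) = 0
    rw [h5]
    show _ = Ideal.Quotient.liftₐ (I ^ N) _ hℓ (φ b)
    rw [← hp₀]
    rfl

end Groth.Agent.REqArc
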