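import Groth.Agent.REqArc.Arc
import Groth.Agent.REqArc.Approx
import Groth.Agent.REqLine.Basic
import Mathlib.AlgebraicGeometry.Morphisms.Smooth
import Mathlib.RingTheory.Smooth.Basic
import Mathlib.RingTheory.Flat.Basic
import Mathlib.RingTheory.TensorProduct.Free

/-!
# Rational curves through a point of a smooth retract rational scheme
-/

set_option autoImplicit false
set_option backward.isDefEq.respectTransparency false
set_option backward.isDefEq.respectTransparency.types false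
set_option linter.style.haveILetI false
set_option maxHeartbeats 800000

universe u

open CategoryTheory CategoryTheory.Limits AlgebraicGeometry TensorProduct

noncomputable section

namespace Groth.Agent.REqArc

variable {k : Type u} [Field k] {X : Scheme.{u}} (f : X ⟶ Spec (CommRingCat.of k))

theorem baseChange_nonzeroDivisor {A : Type u} [CommRing A] [IsDomain A] [Algebra k A] (K : Type u) [Field K]
    [Algebra k K] {g : A} (hg : g ≠ 0) (s : K ⊗[k] A) (hs : s * (1 ⊗ₜ g) = 0) : s = 0 := by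
  have h : LinearMap.lTensor K (LinearMap.mulLeft k g) s = s * (1 ⊗ₜ g) := by
    clear hs
    induction s using TensorProduct.induction_on with
    | zero => simp
    | tmul x y => simp [mul_comm g y]
    | add x y hx hy => rw [map_add, hx, hy, add_mul]
  refine Module.Flat.lTensor_preserves_injective_linearMap (M := K) (LinearMap.mulLeft k g)
    (fun a b h => mul_left_cancel₀ hg h) ?_
  rw [h, hs, map_zero]

theorem mem_basicOpen_of_chart {V₀ : X.Opens} (hV₀ : IsAffineOpen V₀) {R : CommRingCat.{u}} (ψ : Γ(X, V₀) ⟶ R)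
    (g : Γ(X, V₀)) (z : Spec R) (h : ψ g ∉ z.asIdeal) : (Spec.map ψ ≫ hV₀.fromSpec) z ∈ X.basicOpen g := by
  show Spec.map ψ z ∈ hV₀.fromSpec ⁻¹ᵁ X.basicOpen g
  rw [hV₀.fromSpec_preimage_basicOpen]
  exact h

theorem isUnit_of_forall_mem {V₀ : X.Opens} (hV₀ : IsAffineOpen V₀) {R : CommRingCat.{u}} (ψ : Γ(X, V₀) ⟶ R)
    (g : Γ(X, V₀)) (h : ∀ z, (Spec.map ψ ≫ hV₀.fromSpec) z ∈ X.basicOpen g) : IsUnit (ψ g) := by
  by_contra hne
  obtain ⟨M, hM, hgM⟩ := Ideal.exists_le_maximal _ (Ideal.span_singleton_eq_top.not.2 hne)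
  have hz := h ⟨M, hM.isPrime⟩
  change Spec.map ψ _ ∈ hV₀.fromSpec ⁻¹ᵁ X.basicOpen g at hz
  rw [hV₀.fromSpec_preimage_basicOpen] at hz
  exact hz (hgM (Ideal.mem_span_singleton_self _))

theorem exists_affine_nbhd {n : ℕ} {V : (Spec (CommRingCat.of (MvPolynomial (Fin n) k))).Opens}
    (O : (V : Scheme.{u}).Opens) (w : (V : Scheme.{u})) (hw : w ∈ O) :
    ∃ (q : MvPolynomial (Fin n) k) (c : Spec (CommRingCat.of (Localization.Away q)) ⟶ (V : Scheme.{u})),
      V.ι w ∈ PrimeSpectrum.basicOpen q ∧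
      c ≫ V.ι = Spec.map (CommRingCat.ofHom (algebraMap (MvPolynomial (Fin n) k) (Localization.Away q))) ∧
      ∀ z, c z ∈ O := by
  obtain ⟨_, ⟨q, rfl⟩, hyq, hqO⟩ := PrimeSpectrum.isTopologicalBasis_basic_opens.exists_subset_of_mem_open
    (show V.ι w ∈ ((V.ι ''ᵁ O : (Spec _).Opens) : Set _) from ⟨_, hw, rfl⟩) (V.ι ''ᵁ O).2
  let j : Spec (CommRingCat.of (Localization.Away q)) ⟶ Spec (CommRingCat.of (MvPolynomial (Fin n) k)) :=
    Spec.map (CommRingCat.ofHom (algebraMap _ _))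
  have hj : ∀ z, j z ∈ V.ι ''ᵁ O := fun z => hqO (by
    have hz : j z ∈ Set.range (PrimeSpectrum.comap (algebraMap _ (Localization.Away q))) := ⟨z, rfl⟩
    rw [PrimeSpectrum.localization_away_comap_range (Localization.Away q) q] at hz
    exact hz)
  let c := IsOpenImmersion.lift V.ι j (by
    rintro _ ⟨z, rfl⟩
    obtain ⟨w, -, hw⟩ := hj z
    exact ⟨w, hw⟩)
  have hc : c ≫ V.ι = j := IsOpenImmersion.lift_fac _ _ _
  refine ⟨q, c, hyq, hc, fun z => ?_⟩
  obtain ⟨w, hw, hwj⟩ := hj z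
  have : c z = w := V.ι.isOpenEmbedding.injective (by rw [← Scheme.Hom.comp_apply, hc]; exact hwj.symm)
  rw [this]
  exact hw

/-- A retract point of a chart, read in a basic open of the affine space. -/
theorem exists_retract_chart {U : X.Opens} {n : ℕ} {V : (Spec (CommRingCat.of (MvPolynomial (Fin n) k))).Opens}
    (a : (U : Scheme.{u}) ⟶ (V : Scheme.{u})) (b : (V : Scheme.{u}) ⟶ (U : Scheme.{u})) (hab : a ≫ b = 𝟙 _)
    (hb : b ≫ U.ι ≫ f = V.ι ≫ Spec.map (CommRingCat.ofHom (algebraMap k (MvPolynomial (Fin n) k))))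
    {V₀ : X.Opens} (hV₀ : IsAffineOpen V₀) (g : Γ(X, V₀)) (hgU : X.basicOpen g ≤ U)
    (α : CommRingCat.of k ⟶ Γ(X, V₀)) (hα : Spec.map α = hV₀.fromSpec ≫ f)
    (L : Type u) [Field L] (θ : Γ(X, V₀) ⟶ CommRingCat.of L) (hθ : θ g ≠ 0) :
    ∃ (q : MvPolynomial (Fin n) k) (φ₀ : Γ(X, V₀) ⟶ CommRingCat.of (Localization.Away q))
      (v : Localization.Away q →+* L),
      (∀ r, φ₀ (α r) = algebraMap k (Localization.Away q) r) ∧ IsUnit (φ₀ g) ∧ ∀ x, v (φ₀ x) = θ x := by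
  let qL : Spec (CommRingCat.of L) ⟶ X := Spec.map θ ≫ hV₀.fromSpec
  have hqLg : ∀ z, qL z ∈ X.basicOpen g := fun z =>
    mem_basicOpen_of_chart hV₀ θ g z fun h => z.2.ne_top (Ideal.eq_top_of_isUnit_mem _ h (isUnit_iff_ne_zero.2 hθ))
  have hr : Set.range qL ⊆ Set.range U.ι := by
    rintro _ ⟨z, rfl⟩
    rw [Scheme.Opens.range_ι]
    exact hgU (hqLg z)
  let qU := IsOpenImmersion.lift U.ι qL hr
  have hqU : qU ≫ U.ι = qL := IsOpenImmersion.lift_fac _ _ _
  obtain ⟨vr, hvr⟩ : ∃ vr, Spec.map vr = qU ≫ a ≫ V.ι := ⟨_, Spec.map_preimage _⟩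
  let z₀ : Spec (CommRingCat.of L) := IsLocalRing.closedPoint L
  obtain ⟨q, c, hyq, hc, hcO⟩ := exists_affine_nbhd (b ⁻¹ᵁ (U.ι ⁻¹ᵁ X.basicOpen g)) (a (qU z₀)) (by
    show ((qU ≫ a ≫ b) ≫ U.ι) z₀ ∈ X.basicOpen g
    rw [hab, Category.comp_id, hqU]
    exact hqLg z₀)
  have hvq : IsUnit (vr.hom q) := by
    rw [isUnit_iff_ne_zero]
    intro h
    rw [show V.ι (a (qU z₀)) = Spec.map vr z₀ by rw [hvr]; rfl] at hyq
    refine hyq ?_
    show vr.hom q ∈ z₀.asIdeal
    rw [h]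
    exact zero_mem _
  obtain ⟨φ₀, hφ₀⟩ : ∃ φ₀, Spec.map φ₀ = IsOpenImmersion.lift hV₀.fromSpec (c ≫ b ≫ U.ι) (by
      rintro _ ⟨z, rfl⟩
      rw [hV₀.range_fromSpec]
      exact X.basicOpen_le g (hcO z)) := ⟨_, Spec.map_preimage _⟩
  have hφf : Spec.map φ₀ ≫ hV₀.fromSpec = c ≫ b ≫ U.ι := by rw [hφ₀, IsOpenImmersion.lift_fac]
  refine ⟨q, φ₀, IsLocalization.Away.lift q hvq, ?_, isUnit_of_forall_mem hV₀ φ₀ g (fun z => by
    rw [hφf]; exact hcO z), ?_⟩
  · have h1 : Spec.map (α ≫ φ₀) = Spec.map (CommRingCat.ofHom (algebraMap k (MvPolynomial (Fin n) k)) ≫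
        CommRingCat.ofHom (algebraMap _ (Localization.Away q))) := by
      rw [Spec.map_comp, Spec.map_comp, hα, reassoc_of% hφf, hb, reassoc_of% hc]
    intro r
    rw [IsScalarTower.algebraMap_apply k (MvPolynomial (Fin n) k) (Localization.Away q)]
    exact congr(($(Spec.map_injective h1)) r)
  · let v : CommRingCat.of (Localization.Away q) ⟶ CommRingCat.of L :=
      CommRingCat.ofHom (IsLocalization.Away.lift q hvq)
    have e : CommRingCat.ofHom (algebraMap (MvPolynomial (Fin n) k) (Localization.Away q)) ≫ v = vr :=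
      CommRingCat.hom_ext (RingHom.ext fun x => IsLocalization.Away.lift_eq q hvq x)
    have h1 : Spec.map v ≫ c = qU ≫ a := by
      rw [← cancel_mono V.ι, Category.assoc, hc, Category.assoc, ← hvr, ← Spec.map_comp, e]
    have h2 : Spec.map (φ₀ ≫ v) = Spec.map θ := by
      rw [← cancel_mono hV₀.fromSpec, Spec.map_comp, Category.assoc, hφf, reassoc_of% h1, reassoc_of% hab]
      exact hqU
    intro x
    exact congr(($(Spec.map_injective h2)) x)

/-- A link from maps out of a chart to a localisation of the line. -/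
theorem link_of_chart {K : Type u} [Field K] [Algebra k K] {V₀ : X.Opens} (hV₀ : IsAffineOpen V₀)
    (α : CommRingCat.of k ⟶ Γ(X, V₀)) (hα : Spec.map α = hV₀.fromSpec ≫ f)
    (h : Polynomial K) (ψ : Γ(X, V₀) ⟶ CommRingCat.of (Localization.Away h))
    (hψk : ∀ c, ψ (α c) = algebraMap (Polynomial K) _ (Polynomial.C (algebraMap k K c)))
    (e₀ e₁ : Localization.Away h →+* K)
    (he₀k : ∀ c, e₀ (algebraMap (Polynomial K) _ (Polynomial.C c)) = c)
    (he₁k : ∀ c, e₁ (algebraMap (Polynomial K) _ (Polynomial.C c)) = c) (P B : REq.Pts f K)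
    (hP : P.1 = Spec.map (ψ ≫ CommRingCat.ofHom e₀) ≫ hV₀.fromSpec)
    (hB : B.1 = Spec.map (ψ ≫ CommRingCat.ofHom e₁) ≫ hV₀.fromSpec) : REq.ElemLink f K P B := by
  obtain ⟨j₁, hj₁, hj₁b⟩ := REqLine.exists_lineEmb K
  haveI := hj₁
  haveI : IsOpenImmersion (Spec.map (CommRingCat.ofHom (algebraMap (Polynomial K) (Localization.Away h)))) :=
    IsOpenImmersion.of_isLocalization h
  let emb := Spec.map (CommRingCat.ofHom (algebraMap (Polynomial K) (Localization.Away h))) ≫ j₁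
  let ι₁ := emb.isoOpensRange
  have hpt : ∀ (p : Localization.Away h →+* K), (∀ c, p (algebraMap (Polynomial K) _ (Polynomial.C c)) = c) →
      (Spec.map (CommRingCat.ofHom p) ≫ ι₁.hom) ≫ emb.opensRange.ι ≫ REq.P1K.toSpec K = 𝟙 _ := by
    intro p hp
    rw [Category.assoc, Scheme.Hom.isoOpensRange_hom_ι_assoc]
    simp only [emb, Category.assoc, hj₁b, ← Spec.map_comp]
    rw [← Spec.map_id]
    exact congrArg Spec.map (CommRingCat.hom_ext (RingHom.ext fun r => hp r))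
  refine ⟨emb.opensRange, ι₁.inv ≫ Spec.map ψ ≫ hV₀.fromSpec, Spec.map (CommRingCat.ofHom e₀) ≫ ι₁.hom,
    Spec.map (CommRingCat.ofHom e₁) ≫ ι₁.hom, ?_, hpt e₀ he₀k, hpt e₁ he₁k, ?_, ?_⟩
  · rw [← cancel_epi ι₁.hom, Category.assoc, Iso.hom_inv_id_assoc, Scheme.Hom.isoOpensRange_hom_ι_assoc]
    simp only [emb, Category.assoc, ← hα, reassoc_of% hj₁b, REq.specMap, ← Spec.map_comp]
    exact congrArg Spec.map (CommRingCat.hom_ext (RingHom.ext fun r => hψk r))
  · rw [Category.assoc, Iso.hom_inv_id_assoc, hP, Spec.map_comp, Category.assoc]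
  · rw [Category.assoc, Iso.hom_inv_id_assoc, hB, Spec.map_comp, Category.assoc]

/-- The arc through a rational point of a chart. -/
theorem exists_chart_arc {A : Type u} [CommRing A] [IsDomain A] [Algebra k A] [Algebra.Smooth k A] {K : Type u}
    [Field K] [Infinite K] [Algebra k K] (e : A →ₐ[k] K) {g : A} (hg : g ≠ 0) :
    ∃ Q : A →+* PowerSeries K, (∀ c, Q (algebraMap k A c) = PowerSeries.C (algebraMap k K c)) ∧
      (∀ a, PowerSeries.constantCoeff (Q a) = e a) ∧ Q g ≠ 0 := by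
  let ε : K ⊗[k] A →ₐ[K] K := Algebra.TensorProduct.lift (AlgHom.id K K) e fun _ _ => Commute.all _ _
  haveI : IsNoetherianRing (K ⊗[k] A) := Algebra.FiniteType.isNoetherianRing K _
  obtain ⟨Q', hQ'0, hQ'g⟩ := exists_arc ε (1 ⊗ₜ g) (fun s hs => by
    rw [baseChange_nonzeroDivisor K hg s hs, map_zero])
  refine ⟨Q'.toRingHom.comp (Algebra.TensorProduct.includeRight (R := k) (A := K)).toRingHom, fun c => ?_,
    fun a => ?_, hQ'g⟩
  · show Q' (1 ⊗ₜ algebraMap k A c) = _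
    rw [Algebra.algebraMap_eq_smul_one (A := A), tmul_smul, smul_tmul', ← Algebra.algebraMap_eq_smul_one]
    exact (Q'.commutes (algebraMap k K c)).trans (by rw [PowerSeries.algebraMap_apply, Algebra.algebraMap_self]; rfl)
  · show PowerSeries.constantCoeff (Q' (1 ⊗ₜ a)) = _
    rw [hQ'0]
    simp [ε]

/-- A smooth retract rational scheme has a rational curve from any point into the retract open. -/
theorem exists_link [Infinite k] [IsIntegral X] [Smooth f] {U : X.Opens} {n : ℕ}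
    {V : (Spec (CommRingCat.of (MvPolynomial (Fin n) k))).Opens} (a : (U : Scheme.{u}) ⟶ (V : Scheme.{u}))
    (b : (V : Scheme.{u}) ⟶ (U : Scheme.{u})) (hU : (U : Set X).Nonempty) (hab : a ≫ b = 𝟙 _)
    (hb : b ≫ U.ι ≫ f = V.ι ≫ Spec.map (CommRingCat.ofHom (algebraMap k (MvPolynomial (Fin n) k))))
    {K : Type u} [Field K] [Algebra k K] (P : REq.Pts f K) :
    ∃ B : REq.Pts f K, REq.InOpen f U B ∧ REq.ElemLink f K P B := by
  haveI : Infinite K := Infinite.of_injective _ (algebraMap k K).injective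
  obtain ⟨_, ⟨(V₀ : X.Opens), hV₀, rfl⟩, hPV, -⟩ := X.isBasis_affineOpens.exists_subset_of_mem_open
    (Set.mem_univ (P.1 (IsLocalRing.closedPoint K))) isOpen_univ
  haveI : Nonempty V₀ := ⟨⟨_, hPV⟩⟩
  obtain ⟨α, hα⟩ : ∃ α, Spec.map α = hV₀.fromSpec ≫ f := ⟨_, Spec.map_preimage _⟩
  letI : Algebra k Γ(X, V₀) := α.hom.toAlgebra
  haveI : Algebra.Smooth k Γ(X, V₀) := by
    haveI : Smooth (Spec.map α) := hα ▸ inferInstance
    exact RingHom.smooth_algebraMap.mp ((HasRingHomProperty.Spec_iff (P := @Smooth)).mp ‹_›)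
  haveI : Algebra.FiniteType k Γ(X, V₀) := inferInstance
  obtain ⟨x, hxV, hxU⟩ := nonempty_preirreducible_inter V₀.2 U.2 ⟨_, hPV⟩ hU
  obtain ⟨g, hgU, hxg⟩ := hV₀.exists_basicOpen_le ⟨x, hxU⟩ hxV
  have hg0 : g ≠ 0 := by
    rintro rfl
    rw [Scheme.basicOpen_zero] at hxg
    exact hxg
  obtain ⟨e, he⟩ : ∃ e, Spec.map e = IsOpenImmersion.lift hV₀.fromSpec P.1 (by
      rintro _ ⟨w, rfl⟩
      rw [hV₀.range_fromSpec, show w = IsLocalRing.closedPoint K from
        Subsingleton.elim (α := PrimeSpectrum K) _ _]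
      exact hPV) := ⟨_, Spec.map_preimage _⟩
  have heP : Spec.map e ≫ hV₀.fromSpec = P.1 := by rw [he, IsOpenImmersion.lift_fac]
  have hek : ∀ c, e.hom (algebraMap k Γ(X, V₀) c) = algebraMap k K c := by
    have h1 : Spec.map (α ≫ e) = REq.specMap k K := by
      rw [Spec.map_comp, hα, reassoc_of% heP]
      exact P.2
    intro c
    exact congr(($(Spec.map_injective h1)) c)
  obtain ⟨Q, hQk, hQ0, hQg⟩ := exists_chart_arc (A := Γ(X, V₀)) { e.hom with commutes' := hek } hg0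
  obtain ⟨q, φ₀, v, hφk, hφg, hv⟩ := exists_retract_chart f a b hab hb hV₀ g hgU α hα (LaurentSeries K)
    (CommRingCat.ofHom ((toL K).comp Q))
    (fun h => hQg (IsFractionRing.injective (PowerSeries K) (LaurentSeries K) (h.trans (map_zero _).symm)))
  obtain ⟨h, ψ, e₀, e₁, hψk, he₀k, he₁k, he₀, he₁⟩ :=
    exists_approx { φ₀.hom with commutes' := hφk } Q hQk v hv g hφg
  let ψ' : Γ(X, V₀) ⟶ CommRingCat.of (Localization.Away h) := CommRingCat.ofHom ψ
  refine ⟨⟨Spec.map (ψ' ≫ CommRingCat.ofHom e₁) ≫ hV₀.fromSpec, ?_⟩, ?_,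
    link_of_chart f hV₀ α hα h ψ' hψk e₀ e₁ he₀k he₁k P _ ?_ rfl⟩
  · rw [Category.assoc, ← hα, REq.specMap, ← Spec.map_comp]
    exact congrArg Spec.map (CommRingCat.hom_ext (RingHom.ext fun r => (congrArg e₁ (hψk r)).trans (he₁k _)))
  · rintro _ ⟨z, rfl⟩
    exact hgU (mem_basicOpen_of_chart hV₀ _ g z fun hmem =>
      z.2.ne_top (Ideal.eq_top_of_isUnit_mem _ hmem (isUnit_iff_ne_zero.2 he₁)))
  · rw [← heP]
    exact congrArg (· ≫ hV₀.fromSpec) (congrArg Spec.map (CommRingCat.hom_ext (RingHom.ext fun r =>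
      ((he₀ r).trans (hQ0 r)).symm)))

/-- Smooth retract rational schemes over an infinite field are R-trivial. -/
theorem isRTrivial [Infinite k] [IsIntegral X] [Smooth f] (hX : REq.IsRetractRational f) : REq.IsRTrivial f := by
  obtain ⟨U, n, V, a, b, hne, hab, ha, hb⟩ := hX
  intro K _ _
  have hV : (V : Set (Spec (CommRingCat.of (MvPolynomial (Fin n) k)))).Nonempty := by
    obtain ⟨x, hx⟩ := hne
    exact ⟨(a ⟨x, hx⟩).1, (a ⟨x, hx⟩).2⟩
  obtain ⟨p, hp⟩ := REqLine.exists_rat_point V hV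
  refine ⟨⟨⟨REq.specMap k K ≫ p ≫ b ≫ U.ι, by rw [Category.assoc, Category.assoc, Category.assoc, hb, hp,
    Category.comp_id]⟩⟩, fun A B => ?_⟩
  obtain ⟨A', hA', hAA'⟩ := exists_link f a b hne hab hb A
  obtain ⟨B', hB', hBB'⟩ := exists_link f a b hne hab hb B
  have hA'' : Set.range A'.1 ⊆ Set.range U.ι := by rw [Scheme.Opens.range_ι]; exact hA'
  have hB'' : Set.range B'.1 ⊆ Set.range U.ι := by rw [Scheme.Opens.range_ι]; exact hB'
  refine (Relation.EqvGen.rel _ _ hAA').trans _ _ _ (Relation.EqvGen.trans _ _ _ (Relation.EqvGen.rel _ _ ?_)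
    ((Relation.EqvGen.rel _ _ hBB').symm _ _))
  exact REqLine.elemLink_map (f := U.ι ≫ f) U.ι rfl
    (A := ⟨IsOpenImmersion.lift U.ι A'.1 hA'', by rw [IsOpenImmersion.lift_fac_assoc]; exact A'.2⟩)
    (B := ⟨IsOpenImmersion.lift U.ι B'.1 hB'', by rw [IsOpenImmersion.lift_fac_assoc]; exact B'.2⟩)
    A' B' (IsOpenImmersion.lift_fac _ _ _) (IsOpenImmersion.lift_fac _ _ _)
    (REqLine.elemLink_retract (U.ι ≫ f) V a b hab ha hb _ _)

end Groth.Agent.REqArc
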